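import Cfsg.Agent.H610.Rad23.Hex
import Cfsg.Agent.S2129
import Cfsg.Agent.H83.TwDFour
import Cfsg.Agent.OddTab.D4Short
import Cfsg.Agent.Cit.HexInv
import Cfsg.Agent.Cit.HexD4
import Cfsg.Agent.S1071
import Cfsg.Agent.S1025

/-!
# The rows of order two of `³D₄(2)` and `³D₄(3)` (helper610, S3832, S4336)

* `row2_3d42`, `row2_3d43` : `Row23 2 K`.
-/

set_option autoImplicit false
set_option linter.unusedSectionVars false

namespace Cfsg.Agent.H610.Rad23.D4

open Subgroup Cfsg Cfsg.Lie Cfsg.Agent.ChevalleyStructure Cfsg.Agent.ChevalleyStructure.Elts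
open Cfsg.Agent.H459.Rad Cfsg.Agent.H459.Gallery Cfsg.Agent.H483.Rad23
open Cfsg.Agent.H83.ChevInv (PX PX_cons PX_nil)
open Cfsg.Agent.H83.FoldInv (rl PX_rl_mem)
open Cfsg.Agent.Nodes.RGDTwD4 (J foldGrp hp)
open Cfsg.Agent.OddTab.D4Short (psi psi_up psi_lo psi_mem ph ph_up ph_lo ph_neg_one)

section SL

variable {F : Type} [Field F]

/-- the diagonal element -/
def dg (t : Fˣ) : Matrix.SpecialLinearGroup (Fin 2) F := ⟨!![(t : F), 0; 0, ((t⁻¹ : Fˣ) : F)], by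
  rw [Matrix.det_fin_two_of, Units.mul_inv]; simp⟩

/-- the Weyl element -/
def w0 : Matrix.SpecialLinearGroup (Fin 2) F := ⟨!![0, 1; -1, 0], by rw [Matrix.det_fin_two_of]; simp⟩

theorem dg_pow (t : Fˣ) (n : ℕ) : dg t ^ n = dg (t ^ n) := by
  induction n with
  | zero =>
    apply Subtype.ext
    rw [pow_zero]
    ext i j
    fin_cases i <;> fin_cases j <;> simp [dg]
  | succ n ih =>
    rw [pow_succ, ih, pow_succ]
    apply Subtype.ext
    show (dg (t ^ n)).1 * (dg t).1 = (dg (t ^ n * t)).1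
    ext i j
    fin_cases i <;> fin_cases j <;> simp [dg, Matrix.mul_apply, mul_comm]

theorem dg_one : dg (1 : Fˣ) = 1 := by
  apply Subtype.ext
  ext i j
  fin_cases i <;> fin_cases j <;> simp [dg]

theorem dg_inv (t : Fˣ) : (dg t)⁻¹ = dg t⁻¹ := by
  rw [inv_eq_iff_mul_eq_one]
  apply Subtype.ext
  show (dg t).1 * (dg t⁻¹).1 = 1
  ext i j
  fin_cases i <;> fin_cases j <;> simp [dg]

theorem w0_dg (t : Fˣ) : w0 * dg t = (dg t)⁻¹ * w0 := by
  rw [dg_inv]
  apply Subtype.ext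
  show w0.1 * (dg t).1 = (dg t⁻¹).1 * w0.1
  ext i j
  fin_cases i <;> fin_cases j <;> simp [dg, w0]

theorem dg_up (t : Fˣ) : dg t * SL2Hom.up 1 = SL2Hom.up ((t : F) ^ 2) * dg t := by
  apply Subtype.ext
  show (dg t).1 * (SL2Hom.up 1).1 = (SL2Hom.up ((t : F) ^ 2)).1 * (dg t).1
  ext i j
  fin_cases i <;> fin_cases j <;> simp [dg, SL2Hom.up, pow_two]

theorem w0_eq : (w0 : Matrix.SpecialLinearGroup (Fin 2) F) = SL2Hom.up 1 * SL2Hom.lo (-1) * SL2Hom.up 1 := by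
  apply Subtype.ext
  show w0.1 = (SL2Hom.up 1).1 * (SL2Hom.lo (-1)).1 * (SL2Hom.up 1).1
  ext i j
  fin_cases i <;> fin_cases j <;> simp [w0, SL2Hom.up, SL2Hom.lo]

theorem w0_inv : (w0 : Matrix.SpecialLinearGroup (Fin 2) F)⁻¹ = SL2Hom.up (-1) * SL2Hom.lo 1 * SL2Hom.up (-1) := by
  rw [inv_eq_iff_mul_eq_one]
  apply Subtype.ext
  show w0.1 * ((SL2Hom.up (-1)).1 * (SL2Hom.lo 1).1 * (SL2Hom.up (-1)).1) = 1
  ext i j
  fin_cases i <;> fin_cases j <;> simp [w0, SL2Hom.up, SL2Hom.lo]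

theorem dg_eq (t : Fˣ) : dg t = SL2Hom.up (t : F) * SL2Hom.lo (-((t⁻¹ : Fˣ) : F)) * SL2Hom.up (t : F) *
    (SL2Hom.up (-1) * SL2Hom.lo 1 * SL2Hom.up (-1)) := by
  apply Subtype.ext
  show (dg t).1 = (SL2Hom.up (t : F)).1 * (SL2Hom.lo (-((t⁻¹ : Fˣ) : F))).1 * (SL2Hom.up (t : F)).1 *
    ((SL2Hom.up (-1)).1 * (SL2Hom.lo 1).1 * (SL2Hom.up (-1)).1)
  ext i j
  fin_cases i <;> fin_cases j <;> simp [dg, SL2Hom.up, SL2Hom.lo]

theorem dg_eq' (t : Fˣ) : dg t = SL2Hom.up (-(t : F)) * SL2Hom.lo ((t⁻¹ : Fˣ) : F) * SL2Hom.up (-(t : F)) *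
    (SL2Hom.up 1 * SL2Hom.lo (-1) * SL2Hom.up 1) := by
  apply Subtype.ext
  show (dg t).1 = (SL2Hom.up (-(t : F))).1 * (SL2Hom.lo ((t⁻¹ : Fˣ) : F)).1 * (SL2Hom.up (-(t : F))).1 *
    ((SL2Hom.up 1).1 * (SL2Hom.lo (-1)).1 * (SL2Hom.up 1).1)
  ext i j
  fin_cases i <;> fin_cases j <;> simp [dg, SL2Hom.up, SL2Hom.lo]

theorem neg_one_eq : (-1 : Matrix.SpecialLinearGroup (Fin 2) F) =
    SL2Hom.up 1 * SL2Hom.lo (-1) * SL2Hom.up 1 * (SL2Hom.up 1 * SL2Hom.lo (-1) * SL2Hom.up 1) := by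
  apply Subtype.ext
  show (-1 : Matrix (Fin 2) (Fin 2) F) = (SL2Hom.up 1).1 * (SL2Hom.lo (-1)).1 * (SL2Hom.up 1).1 *
    ((SL2Hom.up 1).1 * (SL2Hom.lo (-1)).1 * (SL2Hom.up 1).1)
  ext i j
  fin_cases i <;> fin_cases j <;> simp [SL2Hom.up, SL2Hom.lo]

theorem lo_up_two [CharP F 2] : (SL2Hom.lo (1 : F)) * SL2Hom.up 1 * (SL2Hom.lo 1)⁻¹ = w0 := by
  rw [mul_inv_eq_iff_eq_mul]
  apply Subtype.ext
  show (SL2Hom.lo (1 : F)).1 * (SL2Hom.up 1).1 = w0.1 * (SL2Hom.lo 1).1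
  have h2 : (1 : F) + 1 = 0 := CharTwo.add_self_eq_zero 1
  have h1 : (-1 : F) = 1 := CharTwo.neg_eq 1
  ext i j
  fin_cases i <;> fin_cases j <;> simp [w0, SL2Hom.up, SL2Hom.lo, h1, h2]

end SL

section Psi

variable {F : Type} [Field F] {q : ℕ} {φ : F →+* F} (hφ : ∀ x, φ x = x ^ q)

/-- the short root `SL₂(q³)` -/
noncomputable def ps : Matrix.SpecialLinearGroup (Fin 2) F →* ↥(twistedD4 F q) :=
  (psi φ).codRestrict (twistedD4 F q) (psi_mem φ hφ)

theorem coe_ps (g : Matrix.SpecialLinearGroup (Fin 2) F) : (ps hφ g : GL chevD4.Idx F) = psi φ g := rfl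

theorem X_inj [Finite F] {a b : F} (h : D4Fixed.X φ a = D4Fixed.X φ b) : a = b := by
  let σ : F ≃+* F := RingEquiv.ofBijective φ ⟨φ.injective, Finite.surjective_of_injective φ.injective⟩
  rw [← Hexagon.TwD4Par.X1_eq σ φ (fun _ => rfl), ← Hexagon.TwD4Par.X1_eq σ φ (fun _ => rfl)] at h
  exact Hexagon.TwD4Par.X1_inj σ h

theorem orderOf_ps [Finite F] {l : ℕ} (hl : l.Prime) (h5 : 5 ≤ l) {t : Fˣ} (ht : orderOf t = l) :
    orderOf (ps hφ (dg t)) = l := by
  have : Fact l.Prime := ⟨hl⟩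
  refine orderOf_eq_prime ?_ ?_
  · rw [← map_pow, dg_pow, ← ht, pow_orderOf_eq_one, dg_one, map_one]
  · intro h1
    have h2 : psi φ (dg t) = 1 := congrArg Subtype.val h1
    have h3 : psi φ (SL2Hom.up 1) = psi φ (SL2Hom.up ((t : F) ^ 2)) := by
      have := congrArg (psi φ) (dg_up t)
      rwa [map_mul, map_mul, h2, one_mul, mul_one] at this
    rw [psi_up, psi_up] at h3
    have h4 := X_inj h3
    have h5' : t ^ 2 = 1 := Units.ext (by rw [Units.val_pow_eq_pow_val]; exact h4.symm)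
    have h6 := Nat.le_of_dvd (by norm_num) (orderOf_dvd_of_pow_eq_one h5')
    omega

theorem ps_w0_dg (t : Fˣ) : MulAut.conj (ps hφ w0) (ps hφ (dg t)) = (ps hφ (dg t))⁻¹ := by
  rw [MulAut.conj_apply, ← map_mul, w0_dg, map_mul, map_inv, mul_inv_cancel_right]

theorem exists_t [Fintype F] {l : ℕ} (hl : l.Prime) (h : l ∣ Fintype.card F - 1) : ∃ t : Fˣ, orderOf t = l := by
  classical
  have : Fact l.Prime := ⟨hl⟩
  exact exists_prime_orderOf_dvd_card l (by rw [Fintype.card_units]; exact h)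

end Psi

section Two

variable {F : Type} [Field F] [Fintype F]

theorem char_two (hF : Fintype.card F = 8) : CharP F 2 := by
  have : Fact (Nat.Prime 2) := ⟨Nat.prime_two⟩
  exact charP_of_card_eq_prime_pow (f := 3) (by rw [hF]; norm_num)

theorem center_bot {q : ℕ} (hq : IsPrimePow q) (hK : Fintype.card F = q ^ 3) :
    center ↥(twistedD4 F q) = ⊥ := by
  obtain ⟨h1, h2⟩ := S1071.result hq hK
  rcases h1.eq_bot_or_eq_top_of_normal (center ↥(twistedD4 F q)) inferInstance with h | h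
  · exact h
  · exact absurd ⟨⟨fun a b => (mem_center_iff.1 (h ▸ mem_top b : b ∈ center _) a)⟩⟩ h2

/-- the six long roots in cyclic order -/
def rt (n : ℕ) : ℕ := [23, 22, 9, 0, 1, 14].getD (n % 6) 0

theorem rt_add (n : ℕ) : rt (n + 6) = rt n := by
  unfold rt
  rw [Nat.add_mod_right]

theorem rt_cases {P : ℕ → ℕ → ℕ → Prop} (h : ∀ i < 6, P (rt i) (rt (i + 1)) (rt (i + 2))) (n : ℕ) :
    P (rt n) (rt (n + 1)) (rt (n + 2)) := by
  induction n using Nat.strong_induction_on with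
  | _ n ih =>
    by_cases hn : n < 6
    · exact h n hn
    · obtain ⟨k, rfl⟩ : ∃ k, n = k + 6 := ⟨n - 6, by omega⟩
      have := ih k (by omega)
      rwa [show k + 6 + 1 = k + 1 + 6 by rfl, show k + 6 + 2 = k + 2 + 6 by rfl, rt_add, rt_add, rt_add]

theorem rt_tab1 : ∀ i < 6, (rt i < chevD4.nroots ∧ rt (i + 1) < chevD4.nroots ∧ rt (i + 2) < chevD4.nroots ∧
    rt i ≠ rt (i + 1) ∧ rt i ≠ chevD4.neg (rt (i + 1)) ∧ chevD4.commTerms (rt (i + 1)) (rt i) = []) := by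
  decide +kernel

theorem rt_tab2 : ∀ i < 6, (rt i ≠ rt (i + 2) ∧ rt i ≠ chevD4.neg (rt (i + 2)) ∧
    ((chevD4.commTerms (rt (i + 2)) (rt i) == [(rt (i + 1), (1 : ℤ), 1, 1)]) ||
      (chevD4.commTerms (rt (i + 2)) (rt i) == [(rt (i + 1), (-1 : ℤ), 1, 1)])) = true) := by decide +kernel

theorem x_sq [CharP F 2] (r : ℕ) : xG hp.inList r (1 : F) * xG hp.inList r 1 = 1 := by
  rw [xG_add, CharTwo.add_self_eq_zero, xG_zero]

theorem x_comm (n : ℕ) : xG hp.inList (rt n) (1 : F) * xG hp.inList (rt (n + 1)) 1 =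
    xG hp.inList (rt (n + 1)) 1 * xG hp.inList (rt n) 1 := by
  refine rt_cases (P := fun a b _ => xG hp.inList a (1 : F) * xG hp.inList b 1 =
    xG hp.inList b 1 * xG hp.inList a 1) ?_ n
  intro i hi
  obtain ⟨k1, k2, k3, k4, k5, k6⟩ := rt_tab1 i hi
  exact Cfsg.Agent.OddTab.D4Short.comm_x k2 k1 k4 k5 k6 1 1

theorem x_comm2 [CharP F 2] (n : ℕ) : xG hp.inList (rt n) (1 : F) * xG hp.inList (rt (n + 2)) 1 *
    xG hp.inList (rt n) (1 : F) * xG hp.inList (rt (n + 2)) 1 = xG hp.inList (rt (n + 1)) 1 := by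
  have h1 : xG hp.inList (rt n) (1 : F) * xG hp.inList (rt (n + 2)) 1 =
      xG hp.inList (rt (n + 2)) 1 * xG hp.inList (rt n) 1 * xG hp.inList (rt (n + 1)) 1 := by
    refine rt_cases (P := fun a b c => xG hp.inList a (1 : F) * xG hp.inList c 1 =
      xG hp.inList c 1 * xG hp.inList a 1 * xG hp.inList b 1) ?_ n
    intro i hi
    obtain ⟨k1, k2, k3, -, -, -⟩ := rt_tab1 i hi
    obtain ⟨k4, k5, k6⟩ := rt_tab2 i hi
    rw [Bool.or_eq_true, beq_iff_eq, beq_iff_eq] at k6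
    have h1 := Cfsg.Agent.S1025.result (F := F) chevD4 hp.inList (rt (i + 2)) (rt i) k3 k1 k4 k5 1 1
    have h2 : chevD4.wordMat F (chevD4.commWord F (rt (i + 2)) (rt i) 1 1) =
        ((xG hp.inList (rt (i + 1)) (1 : F) : GL chevD4.Idx F) : Matrix chevD4.Idx chevD4.Idx F) := by
      have h3 : (-1 : F) = 1 := CharTwo.neg_eq 1
      rw [coe_xG]
      unfold ChevalleyDatum.commWord
      rcases k6 with h | h <;> rw [h] <;>
        simp only [List.map_cons, List.map_nil, pow_one, Int.cast_one, Int.cast_neg, h3, mul_one]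
      · exact mul_one _
      · exact mul_one _
    rw [h2] at h1
    exact Units.ext h1
  have c1 := x_comm (F := F) n
  have c2 := x_comm (F := F) (n + 1)
  have s1 := x_sq (F := F) (rt n)
  have s2 := x_sq (F := F) (rt (n + 2))
  rw [show n + 1 + 1 = n + 2 by rfl] at c2
  generalize xG hp.inList (rt n) (1 : F) = a at *
  generalize xG hp.inList (rt (n + 1)) (1 : F) = b at *
  generalize xG hp.inList (rt (n + 2)) (1 : F) = c at *
  calc a * c * a * c = c * a * b * a * c := by rw [h1]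
    _ = c * (a * a) * (b * c) := by rw [mul_assoc (c * a), ← c1]; group
    _ = c * (b * c) := by rw [s1, mul_one]
    _ = c * c * b := by rw [c2]; group
    _ = b := by rw [s2, one_mul]

end Two

section RowTwo

variable {F : Type} [Field F] [Fintype F]

theorem tw_data (hF : Fintype.card F = 8) : ∃ φ : F →+* F, (∀ x, φ x = x ^ 2) ∧
    twistedD4 F 2 ≤ D4Fixed.fix φ := by
  have hq : IsPrimePow 2 := Nat.prime_two.isPrimePow
  have hK : Fintype.card F = 2 ^ 3 := by rw [hF]; norm_num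
  obtain ⟨φ, hφ⟩ := D4Fixed.exists_frob (K := F) hq hK
  exact ⟨φ, hφ, D4Fixed.twisted_le_fix hK hφ⟩

theorem long_mem (hF : Fintype.card F = 8) (n : ℕ) : xG hp.inList (rt n) (1 : F) ∈ twistedD4 F 2 := by
  have := char_two hF
  obtain ⟨φ, hφ, hle⟩ := tw_data hF
  have FG := foldGrp hφ hle
  have key : ∀ (w : List (Fin 2)) (r : ℕ), rl chevD4 J [(w, 0)] = [r] → xG hp.inList r (1 : F) ∈ twistedD4 F 2 := by
    intro w r h
    have h3 := PX_rl_mem FG (H83.TwDFour.hx (K := F) (q := 2)) [(w, 0)]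
    rwa [h, H83.TwDFour.PX_one] at h3
  refine rt_cases (P := fun a _ _ => xG hp.inList a (1 : F) ∈ twistedD4 F 2) ?_ n
  intro i hi
  interval_cases i
  · exact key [0, 1] 23 (by decide +kernel)
  · exact key [1] 22 (by decide +kernel)
  · exact key [0] 9 (by decide +kernel)
  · exact key [0, 1, 0] 0 (by decide +kernel)
  · exact key [1, 0] 1 (by decide +kernel)
  · exact key [] 14 (by decide +kernel)

/-- **`³D₄(2)`** -/
theorem row2_two (hF : Fintype.card F = 8) : Row23 2 ↥(twistedD4 F 2) := by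
  have hq : IsPrimePow 2 := Nat.prime_two.isPrimePow
  have hK : Fintype.card F = 2 ^ 3 := by rw [hF]; norm_num
  have h2 := char_two hF
  have hfin : Finite ↥(twistedD4 F 2) := inferInstance
  have hc := center_bot (F := F) hq hK
  obtain ⟨φ, hφ, hle⟩ := tw_data hF
  intro x hx hR hP hT
  have hout : Odd (Nat.card (Cfsg.Out ↥(twistedD4 F 2))) := by
    have : Fact (Nat.Prime 2) := ⟨Nat.prime_two⟩
    have h3 := Cfsg.Agent.S2129.result (K := F) 2 1 (by rw [hF]; norm_num) le_rfl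
    rw [pow_one] at h3
    rw [h3]
    decide
  obtain ⟨g, rfl⟩ := inner_of_out_odd hout hx
  have hg : orderOf g = 2 := by rwa [orderOf_injective _ (H839.Rad.conj_injective hc)] at hx
  have hgg : (g : GL chevD4.Idx F) * g = 1 := by
    have h4 : g * g = 1 := by rw [← pow_two]; exact orderOf_dvd_iff_pow_eq_one.1 (by rw [hg])
    exact congrArg Subtype.val h4
  rcases H83.TwDFour.exists_rep hK g.2 hgg with h | ⟨R, hR', k, hk, hke⟩
  · have h4 : g = 1 := Subtype.ext h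
    rw [h4, orderOf_one] at hg
    norm_num at hg
  simp only [List.mem_cons, List.not_mem_nil, or_false] at hR'
  rcases hR' with rfl | rfl
  · -- long root elements
    have h5 : (⟨k, hk⟩ : ↥(twistedD4 F 2)) * g * (⟨k, hk⟩ : ↥(twistedD4 F 2))⁻¹ =
        ⟨xG hp.inList (rt 0) (1 : F), long_mem hF 0⟩ := by
      apply Subtype.ext
      show k * (g : GL chevD4.Idx F) * k⁻¹ = _
      rw [hke, H83.TwDFour.PX_one]
      rfl
    have hP' := H483.Rad23.PS.cx hP (⟨k, hk⟩ : ↥(twistedD4 F 2))⁻¹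
    rw [conj_cx, h5] at hP'
    refine not_ps_of_hex (K := ↥(twistedD4 F 2)) (fun n => ⟨xG hp.inList (rt n) (1 : F), long_mem hF n⟩) ?_ ?_ ?_ ?_ hc
      ?_ hP'
    · intro n
      simp only [rt_add]
    · intro n
      exact Subtype.ext (x_sq _)
    · intro n
      exact Subtype.ext (x_comm n)
    · intro n
      exact Subtype.ext (x_comm2 n)
    · intro h1
      have h6 : xG hp.inList (rt 0) (1 : F) = 1 := congrArg Subtype.val h1
      rw [xG_eq_one_iff hp.inList (by decide +kernel)] at h6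
      exact one_ne_zero h6
  · -- short root elements
    have h5 : (⟨k, hk⟩ : ↥(twistedD4 F 2)) * g * (⟨k, hk⟩ : ↥(twistedD4 F 2))⁻¹ = ps hφ (SL2Hom.up 1) := by
      apply Subtype.ext
      show k * (g : GL chevD4.Idx F) * k⁻¹ = _
      rw [hke, coe_ps, psi_up, PX_cons, PX_cons, H83.TwDFour.PX_one, D4Fixed.X, D4U.xU_eq, D4U.xU_eq,
        D4U.xU_eq, ← Nodes.RGDTwD4.xG_eq, map_one, map_one, mul_assoc]
    have hT' := hT.cx (ps hφ (SL2Hom.lo 1) * (⟨k, hk⟩ : ↥(twistedD4 F 2)))⁻¹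
    have h6 : ps hφ (SL2Hom.lo 1) * (⟨k, hk⟩ : ↥(twistedD4 F 2)) * g *
        (ps hφ (SL2Hom.lo 1) * (⟨k, hk⟩ : ↥(twistedD4 F 2)))⁻¹ = ps hφ w0 := by
      rw [← lo_up_two, map_mul, map_mul, map_inv, ← h5]
      group
    rw [conj_cx, h6] at hT'
    obtain ⟨t, ht⟩ := exists_t (F := F) (l := 7) (by norm_num) (by rw [hF])
    exact hT'.no_inv hc (by norm_num) (by norm_num) (orderOf_ps hφ (by norm_num) (by norm_num) ht) (ps_w0_dg hφ t)

end RowTwo

section RowThree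

variable {F : Type} [Field F] [Fintype F] {q : ℕ} {φ : F →+* F} (hφ : ∀ x, φ x = x ^ q)

/-- the involution of the long root `SL₂(q)` -/
noncomputable def hz : GL chevD4.Idx F := ph 1 (-1)

omit [Fintype F] in
theorem hz_conj {s : ℕ} (hs : s < 24) (ho : chevD4.cartan 1 s % 2 = 1) (t : F) :
    hz * xG hp.inList s t * (hz (F := F))⁻¹ = xG hp.inList s (-t) := by
  unfold hz
  rw [ph_neg_one]
  have h1 := Cfsg.Agent.OddHalf.LongSL.Chev.conj_hG hp F (1 : Fin 4) hs (-1) (neg_ne_zero.2 one_ne_zero) t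
  have h2 : ((-1 : F) ^ (chevD4.cartan ((1 : Fin 4) : ℕ) s)) = -1 := by
    have : Odd (chevD4.cartan ((1 : Fin 4) : ℕ) s) := Int.odd_iff.2 ho
    exact this.neg_one_zpow
  rw [h2, neg_one_mul] at h1
  exact h1

omit [Fintype F] in
theorem hz_sq : hz * hz (F := F) = 1 := by
  unfold hz
  rw [← map_mul, neg_mul_neg, one_mul, map_one]

omit [Fintype F] in
theorem hz_mem : hz (F := F) ∈ twistedD4 F q := by
  have h14 : ∀ t : F, t ^ q = t → xG hp.inList 14 t ∈ twistedD4 F q := by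
    intro t ht
    refine Subgroup.subset_closure ⟨[(14, t)], Or.inl ⟨t, ht, 14, by decide, rfl⟩, ?_⟩
    show chevD4.x F 14 t = chevD4.x F 14 t * 1
    rw [mul_one]
  have h9 : ∀ t : F, t ^ q = t → xG hp.inList 9 t ∈ twistedD4 F q := by
    intro t ht
    refine Subgroup.subset_closure ⟨[(9, t)], Or.inl ⟨t, ht, 9, by decide, rfl⟩, ?_⟩
    show chevD4.x F 9 t = chevD4.x F 9 t * 1
    rw [mul_one]
  have e1 : chevD4.simple ((1 : Fin 4) : ℕ) = 14 := by decide +kernel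
  have e2 : chevD4.neg 14 = 9 := by decide +kernel
  have m1 : ph 1 (SL2Hom.up (1 : F)) ∈ twistedD4 F q := by
    rw [ph_up, e1]
    exact h14 1 (one_pow q)
  have m2 : ph 1 (SL2Hom.lo (-1 : F)) ∈ twistedD4 F q := by
    rw [ph_lo, e1, e2, ← inv_inv (xG hp.inList 9 (-1)), xG_inv, neg_neg]
    exact inv_mem (h9 1 (one_pow q))
  unfold hz
  rw [neg_one_eq]
  simp only [map_mul]
  exact mul_mem (mul_mem (mul_mem m1 m2) m1) (mul_mem (mul_mem m1 m2) m1)

omit [Fintype F] in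
theorem hz_up (t : F) : hz * psi φ (SL2Hom.up t) * hz⁻¹ = psi φ (SL2Hom.up (-t)) := by
  rw [psi_up, psi_up, D4Fixed.X, D4Fixed.X, D4U.xU_eq, D4U.xU_eq, D4U.xU_eq, D4U.xU_eq, D4U.xU_eq, D4U.xU_eq,
    ← Nodes.RGDTwD4.xG_eq, map_neg, map_neg]
  have a1 := hz_conj (F := F) (s := 18) (by norm_num) (by decide +kernel) t
  have a2 := hz_conj (F := F) (s := 13) (by norm_num) (by decide +kernel) (φ t)
  have a3 := hz_conj (F := F) (s := 12) (by norm_num) (by decide +kernel) (φ (φ t))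
  rw [← a1, ← a2, ← a3]
  group

omit [Fintype F] in
theorem hz_lo (t : F) : hz * psi φ (SL2Hom.lo t) * hz⁻¹ = psi φ (SL2Hom.lo (-t)) := by
  rw [psi_lo, psi_lo, D4Fixed.Y, D4Fixed.Y, D4U.xU_eq, D4U.xU_eq, D4U.xU_eq, D4U.xU_eq, D4U.xU_eq, D4U.xU_eq,
    ← Nodes.RGDTwD4.xG_eq, map_neg, map_neg]
  have a1 := hz_conj (F := F) (s := 5) (by norm_num) (by decide +kernel) t
  have a2 := hz_conj (F := F) (s := 10) (by norm_num) (by decide +kernel) (φ t)
  have a3 := hz_conj (F := F) (s := 11) (by norm_num) (by decide +kernel) (φ (φ t))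
  rw [← a1, ← a2, ← a3]
  group

omit [Fintype F] in
theorem hz_w0 : hz * psi φ w0 * hz⁻¹ = psi φ w0⁻¹ := by
  rw [w0_inv, w0_eq]
  simp only [map_mul]
  have a1 := hz_up (φ := φ) (1 : F)
  have a2 := hz_lo (φ := φ) (-1 : F)
  rw [neg_neg] at a2
  rw [← a1, ← a2]
  group

omit [Fintype F] in
theorem hz_dg (t : Fˣ) : hz * psi φ (dg t) * hz⁻¹ = psi φ (dg t) := by
  conv_rhs => rw [dg_eq' t]
  rw [dg_eq t]
  simp only [map_mul]
  have a1 := hz_up (φ := φ) (t : F)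
  have a2 := hz_lo (φ := φ) (-((t⁻¹ : Fˣ) : F))
  have a3 := hz_up (φ := φ) (-1 : F)
  have a4 := hz_lo (φ := φ) (1 : F)
  rw [neg_neg] at a2 a3
  rw [← a1, ← a2, ← a3, ← a4]
  group

/-- the involution inverting the split torus of the short root `SL₂(q³)` -/
noncomputable def kk : ↥(twistedD4 F q) := ⟨hz, hz_mem⟩ * ps hφ w0

omit [Fintype F] in
theorem kk_sq : kk hφ * kk hφ = 1 := by
  apply Subtype.ext
  show hz * psi φ w0 * (hz * psi φ w0) = 1
  have h1 := hz_w0 (F := F) (φ := φ)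
  have h2 : (hz (F := F))⁻¹ = hz := inv_eq_of_mul_eq_one_left hz_sq
  rw [h2] at h1
  calc hz * psi φ w0 * (hz * psi φ w0) = (hz * psi φ w0 * hz) * psi φ w0 := by group
    _ = 1 := by rw [h1, ← map_mul, inv_mul_cancel, map_one]

omit [Fintype F] in
theorem kk_dg (t : Fˣ) : MulAut.conj (kk hφ) (ps hφ (dg t)) = (ps hφ (dg t))⁻¹ := by
  apply Subtype.ext
  rw [MulAut.conj_apply]
  show hz * psi φ w0 * psi φ (dg t) * (hz * psi φ w0)⁻¹ = (psi φ (dg t))⁻¹
  have h1 : psi φ w0 * psi φ (dg t) * (psi φ w0)⁻¹ = (psi φ (dg t))⁻¹ := by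
    rw [← map_mul, w0_dg, map_mul, map_inv, mul_inv_cancel_right]
  calc hz * psi φ w0 * psi φ (dg t) * (hz * psi φ w0)⁻¹ =
        hz * (psi φ w0 * psi φ (dg t) * (psi φ w0)⁻¹) * hz⁻¹ := by group
    _ = (hz * psi φ (dg t) * hz⁻¹)⁻¹ := by rw [h1]; group
    _ = _ := by rw [hz_dg]

/-- **`³D₄(3)`** -/
theorem row2_three (hF : Fintype.card F = 27) : Row23 2 ↥(twistedD4 F 3) := by
  have hq : IsPrimePow 3 := Nat.prime_three.isPrimePow
  have hK : Fintype.card F = 3 ^ 3 := by rw [hF]; norm_num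
  have : Fact (Nat.Prime 3) := ⟨Nat.prime_three⟩
  have h3 : CharP F 3 := charP_of_card_eq_prime_pow (f := 3) (by rw [hF]; norm_num)
  have hc := center_bot (F := F) hq hK
  obtain ⟨φ, hφ⟩ := D4Fixed.exists_frob (K := F) hq hK
  intro x hx hR hP hT
  have hout : Odd (Nat.card (Cfsg.Out ↥(twistedD4 F 3))) := by
    have h3 := Cfsg.Agent.S2129.result (K := F) 3 1 (by rw [hF]; norm_num) le_rfl
    rw [pow_one] at h3
    rw [h3]
    decide
  obtain ⟨g, rfl⟩ := inner_of_out_odd hout hx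
  have hg : orderOf g = 2 := by rwa [orderOf_injective _ (H839.Rad.conj_injective hc)] at hx
  obtain ⟨t, ht⟩ := exists_t (F := F) (l := 13) (by norm_num) (by rw [hF]; norm_num)
  have ho := orderOf_ps hφ (l := 13) (by norm_num) (by norm_num) ht
  have hk1 : kk hφ ≠ 1 := by
    intro h
    have h1 := kk_dg hφ t
    rw [h, map_one, MulAut.one_apply] at h1
    have h2 : ps hφ (dg t) ^ 2 = 1 := by
      rw [pow_two]
      nth_rewrite 1 [h1]
      exact inv_mul_cancel _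
    have h4 := Nat.le_of_dvd (by norm_num) (orderOf_dvd_of_pow_eq_one h2)
    rw [ho] at h4
    norm_num at h4
  have h2F : (2 : F) ≠ 0 := by
    intro h
    have h4 : (3 : ℕ) ∣ 2 := (CharP.cast_eq_zero_iff F 3 2).1 (by exact_mod_cast h)
    norm_num at h4
  obtain ⟨σ, -, ⟨c⟩⟩ := Cfsg.Agent.Cit.HexD4.exists_d4 (K := F) (q := 3) hK
  have hgg : g * g = 1 := by rw [← pow_two]; exact orderOf_dvd_iff_pow_eq_one.1 (by rw [hg])
  have hg1 : g ≠ 1 := by
    rintro rfl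
    rw [orderOf_one] at hg
    norm_num at hg
  obtain ⟨k, hk⟩ := isConj_iff.1 (c.isConj_invol h2F hgg hg1 (kk_sq hφ) hk1)
  have hT' := hT.cx k⁻¹
  rw [conj_cx, hk] at hT'
  exact hT'.no_inv hc (by norm_num) (by norm_num) ho (kk_dg hφ t)

end RowThree

end Cfsg.Agent.H610.Rad23.D4

namespace Cfsg.Agent.H610.Rad23

open Cfsg Cfsg.Agent.H483.Rad23

theorem row2_3d42 {K : Type*} [Group K] [Finite K] [IsSimpleGroup K] {F : Type} [Field F] [Fintype F]
    (hF : Fintype.card F = 8) (e : Nonempty (K ≃* ↥(Cfsg.Lie.twistedD4 F 2))) : Cfsg.Agent.H483.Rad23.Row23 2 K := by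
  obtain ⟨e⟩ := e
  have : Finite ↥(Cfsg.Lie.twistedD4 F 2) := inferInstance
  exact (D4.row2_two hF).congr e

theorem row2_3d43 {K : Type*} [Group K] [Finite K] [IsSimpleGroup K] {F : Type} [Field F] [Fintype F]
    (hF : Fintype.card F = 27) (e : Nonempty (K ≃* ↥(Cfsg.Lie.twistedD4 F 3))) : Cfsg.Agent.H483.Rad23.Row23 2 K := by
  obtain ⟨e⟩ := e
  have : Finite ↥(Cfsg.Lie.twistedD4 F 3) := inferInstance
  exact (D4.row2_three hF).congr e

end Cfsg.Agent.H610.Rad23
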