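import Cfsg.Agent.H483.Rad23.Base
import Cfsg.Prelude.Def_KGroupFacts

/-!
# Tools for the rows of order two (helper610, S3832, S4336)

* `inner_of_out_odd` : an automorphism of order two is inner if `|Out|` is odd;
* `not_ps_of_hex` : six involutions with the relations of the roots of type `A₂` over the field with two elements: the
  group they generate is perfect and generated by four of them.
-/

set_option autoImplicit false
set_option linter.unusedSectionVars false

namespace Cfsg.Agent.H610.Rad23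

open Subgroup Cfsg Cfsg.Agent.H459.Rad Cfsg.Agent.H459.Gallery Cfsg.Agent.H483.Rad23
open scoped commutatorElement

theorem inner_of_out_odd {K : Type*} [Group K] (h : Odd (Nat.card (Cfsg.Out K))) {x : MulAut K} (hx : orderOf x = 2) :
    ∃ g : K, x = MulAut.conj g := by
  have h1 : (QuotientGroup.mk x : Cfsg.Out K) = 1 := by
    have h2 : (QuotientGroup.mk x : Cfsg.Out K) ^ 2 = 1 := by
      rw [← QuotientGroup.mk_pow, ← hx, pow_orderOf_eq_one, QuotientGroup.mk_one]
    have h3 := pow_card_eq_one' (x := (QuotientGroup.mk x : Cfsg.Out K))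
    have h4 : orderOf (QuotientGroup.mk x : Cfsg.Out K) ∣ 1 := by
      have h5 : Nat.Coprime (Nat.card (Cfsg.Out K)) 2 := h.coprime_two_right
      rw [← h5.gcd_eq_one]
      exact Nat.dvd_gcd (orderOf_dvd_of_pow_eq_one h3) (orderOf_dvd_of_pow_eq_one h2)
    exact orderOf_eq_one_iff.1 (Nat.dvd_one.1 h4)
  obtain ⟨g, hg⟩ := (QuotientGroup.eq_one_iff x).1 h1
  exact ⟨g, hg.symm⟩

theorem conj_cx {K : Type*} [Group K] [Finite K] (k g : K) :
    cx (MulAut.conj k) g⁻¹ = MulAut.conj (g * k * g⁻¹) := by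
  ext y
  rw [cx_apply]
  simp only [MulAut.conj_apply]
  group

section Hex

variable {K : Type*} [Group K] (e : ℕ → K) (h6 : ∀ n, e (n + 6) = e n) (h2 : ∀ n, e n * e n = 1)
  (h1 : ∀ n, e n * e (n + 1) = e (n + 1) * e n) (h3 : ∀ n, e n * e (n + 2) * e n * e (n + 2) = e (n + 1))

include h6 h2 h1 h3

theorem hex_step (n : ℕ) : e (n + 5) * e (n + 2) * e n * (e (n + 5) * e (n + 2))⁻¹ = e (n + 1) := by
  have i2 : ∀ n, (e n)⁻¹ = e n := fun n => inv_eq_of_mul_eq_one_left (h2 n)
  have k1 : e (n + 2) * e n * e (n + 2) = e n * e (n + 1) := by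
    rw [← h3 n]
    calc e (n + 2) * e n * e (n + 2) = 1 * (e (n + 2) * e n * e (n + 2)) := (one_mul _).symm
      _ = e n * (e n * e (n + 2) * e n * e (n + 2)) := by rw [← h2 n]; group
  have k0 : e (n + 5) * e n = e n * e (n + 5) := by
    have := h1 (n + 5)
    rwa [show n + 5 + 1 = n + 6 by rfl, h6] at this
  have k2 : e (n + 5) * e (n + 1) * e (n + 5) = e n * e (n + 1) := by
    have h4 := h3 (n + 5)
    rw [show n + 5 + 1 = n + 6 by rfl, show n + 5 + 2 = n + 1 + 6 by rfl, h6, h6] at h4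
    calc e (n + 5) * e (n + 1) * e (n + 5) = e (n + 5) * e (n + 1) * e (n + 5) * (e (n + 1) * e (n + 1)) := by
          rw [h2, mul_one]
      _ = (e (n + 5) * e (n + 1) * e (n + 5) * e (n + 1)) * e (n + 1) := by group
      _ = _ := by rw [h4]
  rw [mul_inv_rev, i2, i2]
  calc e (n + 5) * e (n + 2) * e n * (e (n + 2) * e (n + 5)) =
      e (n + 5) * (e (n + 2) * e n * e (n + 2)) * e (n + 5) := by group
    _ = (e (n + 5) * e n) * e (n + 1) * e (n + 5) := by rw [k1]; group
    _ = e n * (e (n + 5) * e (n + 1) * e (n + 5)) := by rw [k0]; group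
    _ = e n * e n * e (n + 1) := by rw [k2]; group
    _ = e (n + 1) := by rw [h2, one_mul]

theorem hex_conj (n : ℕ) : ∃ g : K, g * e 0 * g⁻¹ = e n := by
  induction n with
  | zero => exact ⟨1, by group⟩
  | succ n ih =>
    obtain ⟨g, hg⟩ := ih
    refine ⟨e (n + 5) * e (n + 2) * g, ?_⟩
    rw [← hex_step e h6 h2 h1 h3 n, ← hg]
    group

theorem hex_mem {H : Subgroup K} (m0 : e 0 ∈ H) (m1 : e 1 ∈ H) (m3 : e 3 ∈ H) (m4 : e 4 ∈ H) (n : ℕ) : e n ∈ H := by
  have m2 : e 2 ∈ H := by
    rw [← h3 1]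
    exact mul_mem (mul_mem (mul_mem m1 m3) m1) m3
  have m5 : e 5 ∈ H := by
    rw [← h3 4, show (4 + 2 : ℕ) = 0 + 6 by rfl, h6]
    exact mul_mem (mul_mem (mul_mem m4 m0) m4) m0
  induction n using Nat.strong_induction_on with
  | _ n ih =>
    by_cases hn : n < 6
    · interval_cases n <;> assumption
    · obtain ⟨k, rfl⟩ : ∃ k, n = k + 6 := ⟨n - 6, by omega⟩
      rw [h6]
      exact ih k (by omega)

theorem hex_perfect {H : Subgroup K} (hH : ∀ n, e n ∈ H) (n : ℕ) : e n ∈ ⁅H, H⁆ := by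
  have i2 : ∀ n, (e n)⁻¹ = e n := fun n => inv_eq_of_mul_eq_one_left (h2 n)
  have key : ∀ n, e (n + 1) ∈ ⁅H, H⁆ := by
    intro n
    have h4 := commutator_mem_commutator (hH n) (hH (n + 2))
    rwa [commutatorElement_def, i2, i2, h3] at h4
  cases n with
  | zero =>
    rw [← h6 0]
    exact key 5
  | succ n => exact key n

/-- six involutions with the relations of type `A₂` -/
theorem not_ps_of_hex [Finite K] (hc : center K = ⊥) (hne : e 0 ≠ 1) : ¬ PS 4 (MulAut.conj (e 0)) := by
  intro hps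
  obtain ⟨g1, k1⟩ := hex_conj e h6 h2 h1 h3 1
  obtain ⟨g3, k3⟩ := hex_conj e h6 h2 h1 h3 3
  obtain ⟨g4, k4⟩ := hex_conj e h6 h2 h1 h3 4
  have hs := solvable_four hc hps ![1, g1, g3, g4]
  set H := closure (Set.range fun i => (![1, g1, g3, g4] : Fin 4 → K) i * e 0 * ((![1, g1, g3, g4] : Fin 4 → K) i)⁻¹)
    with hH
  have hm : ∀ n, e n ∈ H := by
    refine hex_mem e h6 h2 h1 h3 ?_ ?_ ?_ ?_
    · exact subset_closure ⟨0, by simp⟩
    · exact subset_closure ⟨1, by simpa using k1⟩
    · exact subset_closure ⟨2, by simpa using k3⟩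
    · exact subset_closure ⟨3, by simpa using k4⟩
  have hp : H ≤ ⁅H, H⁆ := by
    have h5 : ∀ n, e n ∈ ⁅H, H⁆ := hex_perfect e h6 h2 h1 h3 hm
    conv_lhs => rw [hH]
    rw [closure_le]
    rintro _ ⟨i, rfl⟩
    fin_cases i
    · simpa using h5 0
    · have := h5 1
      rw [← k1] at this
      simpa using this
    · have := h5 3
      rw [← k3] at this
      simpa using this
    · have := h5 4
      rw [← k4] at this
      simpa using this
  have hnt : Nontrivial H := ⟨⟨e 0, hm 0⟩, 1, fun h => hne (congrArg Subtype.val h)⟩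
  have h9 := Group.IsSolvable.commutator_lt_top_of_nontrivial H
  have h10 : commutator H = ⊤ := by
    apply Subgroup.map_injective H.subtype_injective
    rw [← MonoidHom.range_eq_map, H.range_subtype, map_subtype_commutator]
    exact le_antisymm (commutator_le_self H) hp
  rw [h10] at h9
  exact lt_irrefl _ h9

end Hex

end Cfsg.Agent.H610.Rad23
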